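import Groth.Agent.RDerLES
import Mathlib.CategoryTheory.Abelian.Refinements
import Mathlib.CategoryTheory.ObjectProperty.ClosedUnderIsomorphisms

/-!
# A left exact functor on a complex of injectives with vanishing homology in low degrees
-/

set_option autoImplicit false

universe v u v' u'

open CategoryTheory CategoryTheory.Limits HomologicalComplex

namespace Groth.Agent.EpsCmp.Hyper

theorem isIso_kernel_ι_of_eq_zero {A : Type u} [Category.{v} A] [Abelian A] {X Y : A} {f : X ⟶ Y} (h : f = 0) :
    IsIso (kernel.ι f) := by subst h; infer_instance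

variable {B : Type u} [Category.{v} B] [Abelian B] {D : Type u'} [Category.{v'} D] [Abelian D]

section Cycles

variable (L : CochainComplex B ℕ) (i : ℕ)

/-- The boundaries. -/
noncomputable abbrev bd : B := kernel (L.homologyπ i)

/-- The differential onto the boundaries. -/
noncomputable def toBd : L.X i ⟶ bd L (i + 1) := kernel.lift _ (L.toCycles i (i + 1)) (by simp)

theorem toBd_ι : toBd L i ≫ kernel.ι _ = L.toCycles i (i + 1) := kernel.lift_ι _ _ _

theorem toBd_d : toBd L i ≫ kernel.ι (L.homologyπ (i + 1)) ≫ L.iCycles (i + 1) = L.d i (i + 1) := by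
  rw [← Category.assoc, toBd_ι, toCycles_i]

theorem iCycles_toBd : L.iCycles i ≫ toBd L i = 0 := by
  rw [← cancel_mono (kernel.ι (L.homologyπ (i + 1)) ≫ L.iCycles (i + 1)), Category.assoc, toBd_d,
    iCycles_d, zero_comp]

instance epi_toBd : Epi (toBd L i) :=
  (ShortComplex.exact_iff_epi_kernel_lift (ShortComplex.mk (L.toCycles i (i + 1)) (L.homologyπ (i + 1)) (by simp))).1
    (ShortComplex.exact_of_g_is_cokernel _ (L.homologyIsCokernel i (i + 1) (by simp)))

/-- Cycles, terms, boundaries. -/
noncomputable abbrev sesZ : ShortComplex B := ShortComplex.mk (L.iCycles i) (toBd L i) (iCycles_toBd L i)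

theorem sesZ_shortExact : (sesZ L i).ShortExact := by
  refine { exact := ShortComplex.exact_of_f_is_kernel _ (KernelFork.IsLimit.ofι' _ _ fun k hk => ?_)
           mono_f := inferInstanceAs (Mono (L.iCycles i)), epi_g := inferInstanceAs (Epi (toBd L i)) }
  exact ⟨L.liftCycles k (i + 1) (by simp) (by rw [← toBd_d L i, ← Category.assoc, hk, zero_comp]), L.liftCycles_i _ _ _ _⟩

/-- Boundaries, cycles, homology. -/
noncomputable abbrev sesH : ShortComplex B :=
  ShortComplex.mk (kernel.ι (L.homologyπ i)) (L.homologyπ i) (kernel.condition _)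

theorem sesH_shortExact : (sesH L i).ShortExact :=
  { exact := ShortComplex.exact_of_f_is_kernel _ (kernelIsKernel _)
    mono_f := inferInstanceAs (Mono (kernel.ι _)), epi_g := inferInstanceAs (Epi (L.homologyπ i)) }

end Cycles

variable (G : B ⥤ D) [G.Additive] [PreservesFiniteLimits G]

section Canonical

variable (L : CochainComplex B ℕ) (i : ℕ)

/-- The image complex. -/
noncomputable abbrev im : CochainComplex D ℕ := (G.mapHomologicalComplex (ComplexShape.up ℕ)).obj L

/-- The image of the inclusion of the cycles. -/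
noncomputable def gi : G.obj (L.cycles i) ⟶ (im G L).X i := G.map (L.iCycles i)

instance mono_gi : Mono (gi G L i) := inferInstanceAs (Mono (G.map (L.iCycles i)))

/-- The image of the cycles maps to the cycles of the image. -/
noncomputable def zMap : G.obj (L.cycles i) ⟶ (im G L).cycles i :=
  (im G L).liftCycles (gi G L i) (i + 1) (by simp)
    ((G.map_comp _ _).symm.trans ((congrArg G.map (L.iCycles_d i (i + 1))).trans (G.map_zero _ _)))

theorem zMap_i : zMap G L i ≫ (im G L).iCycles i = gi G L i :=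
  (im G L).liftCycles_i _ _ _ _

theorem map_toCycles_gi (j : ℕ) : G.map (L.toCycles j i) ≫ gi G L i = (im G L).d j i :=
  (G.map_comp _ _).symm.trans (congrArg G.map (L.toCycles_i j i))

theorem gi_naturality {L L' : CochainComplex B ℕ} (φ : L ⟶ L') :
    gi G L i ≫ ((G.mapHomologicalComplex (ComplexShape.up ℕ)).map φ).f i = G.map (cyclesMap φ i) ≫ gi G L' i :=
  (G.map_comp _ _).symm.trans ((congrArg G.map (cyclesMap_i φ i).symm).trans (G.map_comp _ _))

instance isIso_zMap : IsIso (zMap G L i) := by
  have : Mono (zMap G L i) := by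
    have : Mono (zMap G L i ≫ (im G L).iCycles i) := by rw [zMap_i]; infer_instance
    exact mono_of_mono _ ((im G L).iCycles i)
  have hlim := KernelFork.mapIsLimit _ (L.cyclesIsKernel i (i + 1) (by simp)) G
  obtain ⟨l, hl⟩ := KernelFork.IsLimit.lift' hlim ((im G L).iCycles i) ((im G L).iCycles_d i (i + 1))
  have hl' : l ≫ gi G L i = (im G L).iCycles i := hl
  refine ⟨l, ?_, ?_⟩
  · rw [← cancel_mono (gi G L i), Category.assoc]
    exact (congrArg (_ ≫ ·) hl').trans ((zMap_i G L i).trans (Category.id_comp _).symm)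
  · rw [← cancel_mono ((im G L).iCycles i), Category.assoc, zMap_i, Category.id_comp]
    exact hl'

theorem map_toCycles_zMap (j : ℕ) : G.map (L.toCycles j i) ≫ zMap G L i = (im G L).toCycles j i := by
  rw [← cancel_mono ((im G L).iCycles i), Category.assoc, zMap_i]
  exact (map_toCycles_gi G L i j).trans ((im G L).toCycles_i j i).symm

/-- The projection of the cycles of the image. -/
noncomputable def zπ : (im G L).cycles i ⟶ G.obj (L.homology i) := inv (zMap G L i) ≫ G.map (L.homologyπ i)

/-- The canonical map from the homology of the image to the image of the homology. -/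
noncomputable def can : (im G L).homology i ⟶ G.obj (L.homology i) :=
  ((im G L).sc i).descHomology (zπ G L i) (by
    change (im G L).toCycles ((ComplexShape.up ℕ).prev i) i ≫ zπ G L i = 0
    refine (congrArg (· ≫ zπ G L i) (map_toCycles_zMap G L i _).symm).trans ?_
    refine (Category.assoc _ _ _).trans ?_
    rw [zπ, IsIso.hom_inv_id_assoc]
    exact (G.map_comp _ _).symm.trans ((congrArg G.map (L.toCycles_comp_homologyπ _ i)).trans (G.map_zero _ _)))

theorem π_can : (im G L).homologyπ i ≫ can G L i = inv (zMap G L i) ≫ G.map (L.homologyπ i) := by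
  unfold can
  exact ((im G L).sc i).π_descHomology _ _

theorem can_naturality {L L' : CochainComplex B ℕ} (φ : L ⟶ L') :
    homologyMap ((G.mapHomologicalComplex (ComplexShape.up ℕ)).map φ) i ≫ can G L' i =
      can G L i ≫ G.map (homologyMap φ i) := by
  rw [← cancel_epi ((im G L).homologyπ i), homologyπ_naturality_assoc, π_can, reassoc_of% (π_can G L i),
    ← G.map_comp, homologyπ_naturality, G.map_comp]
  have h : zMap G L i ≫ cyclesMap ((G.mapHomologicalComplex (ComplexShape.up ℕ)).map φ) i =
      G.map (cyclesMap φ i) ≫ zMap G L' i := by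
    rw [← cancel_mono ((im G L').iCycles i), Category.assoc, Category.assoc, cyclesMap_i,
      reassoc_of% (zMap_i G L i), zMap_i, gi_naturality]
  rw [← cancel_epi (zMap G L i), reassoc_of% h]
  simp

/-- The kernel of the canonical map is the cokernel of the boundaries. -/
theorem nonempty_kernel_can_iso :
    Nonempty (cokernel (G.map (toBd L i)) ≅ kernel (can G L (i + 1))) := by
  let u : G.obj (bd L (i + 1)) ⟶ (im G L).homology (i + 1) :=
    G.map (kernel.ι _) ≫ zMap G L (i + 1) ≫ (im G L).homologyπ (i + 1)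
  have hu : u ≫ can G L (i + 1) = 0 := by
    simp only [u, Category.assoc, π_can, IsIso.hom_inv_id_assoc, ← G.map_comp, kernel.condition, G.map_zero]
  have hz : G.map (toBd L i) ≫ kernel.lift _ u hu = 0 := by
    rw [← cancel_mono (kernel.ι _), Category.assoc, kernel.lift_ι, zero_comp]
    simp only [u]
    rw [← Category.assoc, ← G.map_comp, toBd_ι, ← Category.assoc, map_toCycles_zMap]
    exact (im G L).toCycles_comp_homologyπ _ _
  have hex : (ShortComplex.mk _ _ hz).Exact := by
    rw [ShortComplex.exact_iff_exact_up_to_refinements]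
    intro A x hx
    dsimp only at x hx
    have hx' : (x ≫ G.map (kernel.ι _) ≫ zMap G L (i + 1)) ≫ (im G L).homologyπ (i + 1) = 0 := by
      simpa [u] using congrArg (· ≫ kernel.ι _) hx
    obtain ⟨A', p, hp, y, hy⟩ := (ShortComplex.exact_of_g_is_cokernel
      (ShortComplex.mk _ _ ((im G L).toCycles_comp_homologyπ i (i + 1)))
      ((im G L).homologyIsCokernel i (i + 1) (by simp))).exact_up_to_refinements _ hx'
    refine ⟨A', p, hp, y, ?_⟩
    rw [← cancel_mono (G.map (kernel.ι (L.homologyπ (i + 1))) ≫ zMap G L (i + 1)), Category.assoc, hy]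
    simp only [Category.assoc]
    rw [← Category.assoc (G.map (toBd L i)), ← G.map_comp, toBd_ι, map_toCycles_zMap]
    rfl
  have hepi : Epi (kernel.lift _ u hu) := by
    rw [epi_iff_surjective_up_to_refinements]
    intro A y
    obtain ⟨A', p, hp, z, hz'⟩ := surjective_up_to_refinements_of_epi ((im G L).homologyπ (i + 1)) (y ≫ kernel.ι _)
    have hzπ : z ≫ inv (zMap G L (i + 1)) ≫ G.map (L.homologyπ (i + 1)) = 0 := by
      rw [← π_can, ← Category.assoc, ← hz']
      simp
    obtain ⟨w, hw⟩ := KernelFork.IsLimit.lift'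
      (KernelFork.mapIsLimit _ (kernelIsKernel (L.homologyπ (i + 1))) G) (z ≫ inv (zMap G L (i + 1)))
      ((Category.assoc _ _ _).trans hzπ)
    let w' : A' ⟶ G.obj (bd L (i + 1)) := w
    refine ⟨A', p, hp, w', ?_⟩
    have hw' : w' ≫ G.map (kernel.ι (L.homologyπ (i + 1))) = z ≫ inv (zMap G L (i + 1)) := hw
    rw [← cancel_mono (kernel.ι (can G L (i + 1))), Category.assoc, Category.assoc, kernel.lift_ι]
    simp only [u]
    rw [reassoc_of% hw', IsIso.inv_hom_id_assoc, ← hz']
  exact ⟨IsColimit.coconePointUniqueUpToIso (cokernelIsCokernel _) hex.gIsCokernel⟩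

theorem epi_zMap_π : Epi (zMap G L i ≫ (im G L).homologyπ i) := epi_comp _ _

end Canonical

section Derived

variable [HasInjectiveResolutions B]

theorem δ_iso {S : ShortComplex B} (hS : S.ShortExact) [Injective S.X₂] (p : ℕ) :
    Nonempty ((G.rightDerived (p + 1)).obj S.X₃ ≅ (G.rightDerived (p + 2)).obj S.X₁) := by
  let T := RDerLES.derivedLES G
  have hm := (T.exact₃ S hS (p + 1) (p + 2) rfl).mono_g ((G.isZero_rightDerived_obj_injective_succ p S.X₂).eq_of_src _ _)
  have he := (T.exact₁ S hS (p + 1) (p + 2) rfl).epi_f ((G.isZero_rightDerived_obj_injective_succ (p + 1) S.X₂).eq_of_tgt _ _)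
  have : IsIso (T.δ S hS (p + 1) (p + 2) rfl) := @isIso_of_mono_of_epi _ _ _ _ _ _ hm he
  exact ⟨asIso (T.δ S hS (p + 1) (p + 2) rfl)⟩

theorem cokernel_iso {S : ShortComplex B} (hS : S.ShortExact) [Injective S.X₂] :
    Nonempty (cokernel (G.map S.g) ≅ (G.rightDerived 1).obj S.X₁) := by
  let T := RDerLES.derivedLES G
  have he : Epi (T.δ S hS 0 1 rfl) :=
    (T.exact₁ S hS 0 1 rfl).epi_f ((G.isZero_rightDerived_obj_injective_succ 0 S.X₂).eq_of_tgt _ _)
  refine ⟨cokernel.mapIso _ _ (G.rightDerivedZeroIsoSelf.app S.X₂).symm (G.rightDerivedZeroIsoSelf.app S.X₃).symm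
    (G.rightDerivedZeroIsoSelf.inv.naturality S.g) ≪≫ ?_⟩
  exact IsColimit.coconePointUniqueUpToIso (cokernelIsCokernel _)
    (@ShortComplex.Exact.gIsCokernel _ _ _ _ _ (T.exact₃ S hS 0 1 rfl) he)

theorem epi_map {S : ShortComplex B} (hS : S.ShortExact) (h : IsZero ((G.rightDerived 1).obj S.X₁)) :
    Epi (G.map S.g) := by
  have he : Epi ((G.rightDerived 0).map S.g) :=
    ((RDerLES.derivedLES G).exact₃ S hS 0 1 rfl).epi_f (h.eq_of_tgt _ _)
  exact ((MorphismProperty.epimorphisms D).arrow_mk_iso_iff
    (Arrow.isoMk (G.rightDerivedZeroIsoSelf.app S.X₂) (G.rightDerivedZeroIsoSelf.app S.X₃)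
      (G.rightDerivedZeroIsoSelf.hom.naturality S.g).symm :
      Arrow.mk ((G.rightDerived 0).map S.g) ≅ Arrow.mk (G.map S.g))).1 he

variable (L : CochainComplex B ℕ) (hI : ∀ i, Injective (L.X i))
include hI

theorem isZero_cycles_of_acyclic (n : ℕ)
    (hH : ∀ i < n, ∀ p, 1 ≤ p → p ≤ n → IsZero ((G.rightDerived p).obj (L.homology i))) :
    ∀ i p, 1 ≤ p → p + i ≤ n → IsZero ((G.rightDerived p).obj (L.cycles i)) := by
  intro i
  induction i with
  | zero =>
    intro p hp hpn
    exact (hH 0 (by omega) p hp (by omega)).of_iso ((G.rightDerived p).mapIso L.isoHomologyπ₀)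
  | succ i ih =>
    intro p hp hpn
    obtain ⟨q, rfl⟩ : ∃ q, p = q + 1 := ⟨p - 1, by omega⟩
    have := hI i
    obtain ⟨e⟩ := δ_iso G (sesZ_shortExact L i) q
    exact ((RDerLES.derivedLES G).exact₂ _ (sesH_shortExact L (i + 1)) (q + 1)).isZero_of_both_zeros
      (((ih (q + 2) (by omega) (by omega)).of_iso e).eq_of_src _ _) ((hH (i + 1) (by omega) (q + 1) hp (by omega)).eq_of_tgt _ _)

/-- The canonical map is mono in the range of vanishing. -/
theorem mono_can (n : ℕ)
    (hH : ∀ i < n, ∀ p, 1 ≤ p → p ≤ n → IsZero ((G.rightDerived p).obj (L.homology i))) :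
    Mono (can G L n) := by
  cases n with
  | zero =>
    have h : (im G L).homologyπ 0 ≫ can G L 0 = inv (zMap G L 0) ≫ G.map (L.homologyπ 0) := π_can G L 0
    have : IsIso (L.homologyπ 0) := L.isoHomologyπ₀.isIso_hom
    have : IsIso ((im G L).homologyπ 0) := (im G L).isoHomologyπ₀.isIso_hom
    have : IsIso ((im G L).homologyπ 0 ≫ can G L 0) := by rw [h]; infer_instance
    have : IsIso (can G L 0) := IsIso.of_isIso_comp_left ((im G L).homologyπ 0) _
    infer_instance
  | succ m =>
    have := hI m
    have := epi_map G (sesZ_shortExact L m)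
      (isZero_cycles_of_acyclic G L hI (m + 1) hH m 1 le_rfl (by omega))
    have : Epi (G.map (toBd L m)) := this
    obtain ⟨e⟩ := nonempty_kernel_can_iso G L m
    exact Preadditive.mono_of_isZero_kernel _ ((isZero_cokernel_of_epi (G.map (toBd L m))).of_iso e.symm)

theorem cycles_iso (n : ℕ) (hH : ∀ i, 1 ≤ i → i ≤ n → IsZero (L.homology i)) :
    ∀ i ≤ n, ∀ p, Nonempty ((G.rightDerived (p + 1)).obj (L.cycles i) ≅ (G.rightDerived (p + 1 + i)).obj (L.cycles 0)) := by
  intro i
  induction i with
  | zero => exact fun _ p => ⟨Iso.refl _⟩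
  | succ i ih =>
    intro hi p
    have := hI i
    obtain ⟨e⟩ := δ_iso G (sesZ_shortExact L i) p
    obtain ⟨e'⟩ := ih (by omega) (p + 1)
    have : IsIso (kernel.ι (L.homologyπ (i + 1))) :=
      isIso_kernel_ι_of_eq_zero ((hH (i + 1) (by omega) hi).eq_of_tgt _ 0)
    exact ⟨(G.rightDerived (p + 1)).mapIso (asIso (kernel.ι (L.homologyπ (i + 1)))).symm ≪≫ e ≪≫ e' ≪≫
      eqToIso (by rw [show p + 1 + 1 + i = p + 1 + (i + 1) by omega])⟩

variable (P : ObjectProperty D) [P.IsClosedUnderIsomorphisms]

/-- The kernel of the canonical map in the first nonvanishing degree is a derived functor. -/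
theorem prop_kernel_can (n : ℕ) (hH : ∀ i, 1 ≤ i → i ≤ n → IsZero (L.homology i))
    (hP : ∀ q, P ((G.rightDerived q).obj (L.cycles 0))) :
    ∀ i ≤ n, P (kernel (can G L (i + 1))) := by
  intro i hi
  have := hI i
  obtain ⟨e₁⟩ := nonempty_kernel_can_iso G L i
  obtain ⟨e₂⟩ := cokernel_iso G (sesZ_shortExact L i)
  obtain ⟨e₃⟩ := cycles_iso G L hI n hH i hi 0
  exact P.prop_of_iso ((e₂ ≪≫ e₃).symm ≪≫ e₁) (hP _)

/-- Homology of the image below the first nonvanishing degree. -/
theorem prop_homology (n : ℕ) (hH : ∀ i, 1 ≤ i → i ≤ n → IsZero (L.homology i))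
    (hP : ∀ q, P ((G.rightDerived q).obj (L.cycles 0))) :
    ∀ i ≤ n, P ((im G L).homology i) := by
  intro i hi
  cases i with
  | zero =>
    exact P.prop_of_iso (G.rightDerivedZeroIsoSelf.app _ ≪≫ asIso (zMap G L 0) ≪≫ (im G L).isoHomologyπ₀) (hP 0)
  | succ i =>
    have hz : IsIso (kernel.ι (can G L (i + 1))) :=
      isIso_kernel_ι_of_eq_zero ((Functor.map_isZero G (hH (i + 1) (by omega) hi)).eq_of_tgt _ 0)
    exact P.prop_of_iso (asIso (kernel.ι (can G L (i + 1))))
      (prop_kernel_can G L hI P n hH hP i (by omega))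

end Derived

end Groth.Agent.EpsCmp.Hyper
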