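import Mathlib.CategoryTheory.Sites.Pullback
import Mathlib.CategoryTheory.Sites.Over
import Mathlib.CategoryTheory.Sites.Abelian
import Mathlib.CategoryTheory.Limits.Final
import Mathlib.CategoryTheory.Abelian.GrothendieckAxioms.Colim
import Mathlib.Algebra.Category.Grp.AB
import Mathlib.Algebra.Category.Grp.FilteredColimits
import Mathlib.CategoryTheory.Sites.LeftExact
import Mathlib.CategoryTheory.Abelian.Exact
import Mathlib.CategoryTheory.Adjunction.Additive
import Mathlib.Algebra.Homology.ShortComplex.ExactFunctor

/-!
# Extension by zero along an arrow of abelian sheaves on slices is exact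
-/

set_option autoImplicit false

universe u

open CategoryTheory CategoryTheory.Limits Opposite

namespace Groth.Agent.EpsCmp.ExtMap

variable {C : Type u} [SmallCategory C] {X Y : C} (f : X ⟶ Y)

/-- The objects of the comma category which are terminal in their components. -/
def pick (V : Over Y) : Discrete {φ : V.left ⟶ X // φ ≫ f = V.hom} ⥤ CostructuredArrow (Over.map f).op (op V) :=
  Discrete.functor fun φ => CostructuredArrow.mk (Y := op (Over.mk φ.1))
    (Over.homMk (U := V) (V := (Over.map f).obj (Over.mk φ.1)) (𝟙 V.left) ((Category.id_comp _).trans φ.2)).op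

instance final_pick (V : Over Y) : (pick f V).Final := ⟨fun A₀ => by
  let φ : {φ : V.left ⟶ X // φ ≫ f = V.hom} := ⟨A₀.hom.unop.left ≫ A₀.left.unop.hom,
    (Category.assoc _ _ _).trans (Over.w A₀.hom.unop)⟩
  let t : Over.mk φ.1 ⟶ A₀.left.unop := Over.homMk A₀.hom.unop.left rfl
  let a : A₀ ⟶ (pick f V).obj ⟨φ⟩ := CostructuredArrow.homMk t.op (by
    refine Quiver.Hom.unop_inj ?_
    ext
    exact Category.id_comp _)
  have : Nonempty (StructuredArrow A₀ (pick f V)) := ⟨StructuredArrow.mk a⟩
  have e : ∀ (A' : Discrete {φ : V.left ⟶ X // φ ≫ f = V.hom}) (g : A₀ ⟶ (pick f V).obj A'),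
      g.left.unop.left = A₀.hom.unop.left := fun A' g => by
    have := congrArg (fun k => k.unop.left) (CostructuredArrow.w g)
    dsimp [pick] at this
    simp at this
    exact this
  refine zigzag_isConnected fun A B => Relation.ReflTransGen.single (Or.inl ⟨?_⟩)
  have h : ∀ B : StructuredArrow A₀ (pick f V), B.right.as = φ := fun B => Subtype.ext <| by
    have hw := (Over.w B.hom.left.unop).symm
    refine hw.trans ?_
    exact congrArg (fun k => k ≫ A₀.left.unop.hom) (e _ B.hom)
  refine StructuredArrow.homMk (Discrete.eqToHom ((h A).trans (h B).symm)) ?_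
  refine CostructuredArrow.hom_ext _ _ (Quiver.Hom.unop_inj (Over.OverMorphism.ext ?_))
  exact (e _ _).trans (e _ _).symm⟩

set_option backward.isDefEq.respectTransparency false in
theorem mono_lan_map {P Q : (Over X)ᵒᵖ ⥤ AddCommGrpCat.{u}} (α : P ⟶ Q) [Mono α] :
    Mono ((Over.map f).op.lan.map α) := by
  rw [NatTrans.mono_iff_mono_app]
  rintro ⟨V⟩
  let L := (Over.map f).op
  have hP := (Functor.Final.isColimitWhiskerEquiv (pick f V) _).symm
    (Functor.isPointwiseLeftKanExtensionOfIsLeftKanExtension (L.lan.obj P) (L.lanUnit.app P) (op V))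
  have hQ := (Functor.Final.isColimitWhiskerEquiv (pick f V) _).symm
    (Functor.isPointwiseLeftKanExtensionOfIsLeftKanExtension (L.lan.obj Q) (L.lanUnit.app Q) (op V))
  let β := Functor.whiskerLeft (pick f V ⋙ CostructuredArrow.proj L (op V)) α
  have : ∀ i, Mono (β.app i) := fun i =>
    (NatTrans.mono_iff_mono_app α).1 inferInstance _
  have : Mono β := NatTrans.mono_of_mono_app β
  refine colim.map_mono' β hP hQ ((L.lan.map α).app (op V)) fun j => ?_
  dsimp [Functor.LeftExtension.coconeAt, β]
  have h := congr_app (L.lanUnit.naturality α) ((pick f V ⋙ CostructuredArrow.proj L (op V)).obj j)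
  dsimp at h
  rw [Category.assoc, NatTrans.naturality, ← Category.assoc]
  exact (congrArg (fun g => g ≫ (L.lan.obj Q).map _) h).symm.trans (Category.assoc _ _ _)

variable (J : GrothendieckTopology C)

theorem preservesMonomorphisms_pullback (f : X ⟶ Y) :
    ((Over.map f).sheafPullback AddCommGrpCat.{u} (J.over X) (J.over Y)).PreservesMonomorphisms := by
  let e := Functor.sheafPullbackConstruction.sheafPullbackIso (Over.map f) AddCommGrpCat.{u} (J.over X) (J.over Y)
  have : (Functor.sheafPullbackConstruction.sheafPullback (Over.map f) AddCommGrpCat.{u} (J.over X) (J.over Y)).PreservesMonomorphisms :=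
    ⟨fun {F G} α _ => by
      have := mono_lan_map f ((sheafToPresheaf (J.over X) AddCommGrpCat.{u}).map α)
      exact inferInstanceAs (Mono ((presheafToSheaf (J.over Y) AddCommGrpCat.{u}).map
        ((Over.map f).op.lan.map ((sheafToPresheaf (J.over X) AddCommGrpCat.{u}).map α))))⟩
  exact Functor.PreservesMonomorphisms.of_iso e.symm

theorem exact_pullback (f : X ⟶ Y) :
    PreservesFiniteLimits ((Over.map f).sheafPullback AddCommGrpCat.{u} (J.over X) (J.over Y)) ∧
      PreservesFiniteColimits ((Over.map f).sheafPullback AddCommGrpCat.{u} (J.over X) (J.over Y)) := by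
  let L := (Over.map f).sheafPullback AddCommGrpCat.{u} (J.over X) (J.over Y)
  let adj : L ⊣ _ := (Over.map f).sheafAdjunctionContinuous AddCommGrpCat.{u} (J.over X) (J.over Y)
  have : L.IsLeftAdjoint := adj.isLeftAdjoint
  have : ((Over.map f).sheafPushforwardContinuous AddCommGrpCat.{u} (J.over X) (J.over Y)).Additive :=
    ⟨fun {_ _ _ _} => rfl⟩
  have : L.Additive := adj.left_adjoint_additive
  have : L.PreservesZeroMorphisms := L.preservesZeroMorphisms_of_additive
  have := preservesMonomorphisms_pullback J f
  have : L.PreservesHomology := Functor.preservesHomology_of_preservesMonos_and_cokernels L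
  exact ⟨L.preservesFiniteLimits_of_preservesHomology, L.preservesFiniteColimits_of_preservesHomology⟩

end Groth.Agent.EpsCmp.ExtMap
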