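import Groth.Prelude.Def_SiteCmp
import Groth.Prelude.Def_CohSite
import Groth.Prelude.Def_WeakSerre
import Groth.Agent.SiteCoh.Free
import Groth.Agent.EpsCmp.ExtMap
import Mathlib.CategoryTheory.Sites.Abelian
import Mathlib.CategoryTheory.Adjunction.FullyFaithful
import Mathlib.CategoryTheory.Adjunction.Additive
import Mathlib.CategoryTheory.Preadditive.Injective.Preserves

/-!
# Two topologies on the slices of a category
-/

set_option autoImplicit false

universe u

open CategoryTheory CategoryTheory.Limits Opposite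

namespace Groth.Agent.EpsCmp

variable {C : Type u} [SmallCategory C] {J J' : GrothendieckTopology C}

/-- The direct image to the coarser topology on a slice. -/
abbrev eps (h : J' ≤ J) (X : C) : Sheaf (J.over X) AddCommGrpCat.{u} ⥤ Sheaf (J'.over X) AddCommGrpCat.{u} :=
  SiteCmp.epsSh (SiteCmp.over_le h X) AddCommGrpCat.{u}

/-- The inverse image to the finer topology on a slice. -/
noncomputable abbrev epsInv (h : J' ≤ J) (X : C) :
    Sheaf (J'.over X) AddCommGrpCat.{u} ⥤ Sheaf (J.over X) AddCommGrpCat.{u} :=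
  SiteCmp.epsShInv (SiteCmp.over_le h X) AddCommGrpCat.{u}

variable (J) in
/-- Restriction along an arrow. -/
noncomputable abbrev rs {X Y : C} (f : X ⟶ Y) : Sheaf (J.over Y) AddCommGrpCat.{u} ⥤ Sheaf (J.over X) AddCommGrpCat.{u} :=
  CohSite.push (J.over Y) (J.over X) (Over.map f)

variable (J) in
/-- Direct image along an arrow. -/
noncomputable abbrev pf {X Y : C} (f : X ⟶ Y) :
    Sheaf (J.over X) AddCommGrpCat.{u} ⥤ Sheaf (J.over Y) AddCommGrpCat.{u} :=
  (Over.map f).sheafPushforwardCocontinuous AddCommGrpCat.{u} (J.over X) (J.over Y)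

variable (J) in
/-- Restriction is left adjoint to direct image. -/
noncomputable def rsAdj {X Y : C} (f : X ⟶ Y) : rs J f ⊣ pf J f :=
  (Over.map f).sheafAdjunctionCocontinuous AddCommGrpCat.{u} (J.over X) (J.over Y)

instance pf_additive {X Y : C} (f : X ⟶ Y) : (pf J f).Additive := (rsAdj J f).right_adjoint_additive

instance rs_colimits {X Y : C} (f : X ⟶ Y) : PreservesFiniteColimits (rs J f) := by
  have : (rs J f).IsLeftAdjoint := (rsAdj J f).isLeftAdjoint
  infer_instance

instance pf_limits {X Y : C} (f : X ⟶ Y) : PreservesFiniteLimits (pf J f) := by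
  have : (pf J f).IsRightAdjoint := (rsAdj J f).isRightAdjoint
  infer_instance

theorem injective_pf {X Y : C} (f : X ⟶ Y) (I : Sheaf (J.over X) AddCommGrpCat.{u}) [Injective I] :
    Injective ((pf J f).obj I) :=
  Injective.injective_of_adjoint (rsAdj J f) I

theorem injective_rs {X Y : C} (f : X ⟶ Y) (I : Sheaf (J.over Y) AddCommGrpCat.{u}) [Injective I] :
    Injective ((rs J f).obj I) := by
  have := (Groth.Agent.EpsCmp.ExtMap.exact_pullback J f).1
  exact Injective.injective_of_adjoint
    ((Over.map f).sheafAdjunctionContinuous AddCommGrpCat.{u} (J.over X) (J.over Y)) I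

variable (h : J' ≤ J)

instance eps_additive (X : C) : (eps h X).Additive := ⟨fun {_ _ _ _} => rfl⟩

/-- The inverse image is left adjoint to the direct image. -/
noncomputable def epsAdj (X : C) : epsInv h X ⊣ eps h X :=
  SiteCmp.epsShAdj (SiteCmp.over_le h X) AddCommGrpCat.{u}

instance epsInv_limits (X : C) : PreservesFiniteLimits (epsInv h X) :=
  letI := SiteCmp.idContinuous (SiteCmp.over_le h X)
  Functor.sheafPullbackConstruction.preservesFiniteLimits (𝟭 (Over X)) AddCommGrpCat.{u} (J'.over X) (J.over X)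

instance epsInv_colimits (X : C) : PreservesFiniteColimits (epsInv h X) := by
  have : (epsInv h X).IsLeftAdjoint := (epsAdj h X).isLeftAdjoint
  infer_instance

instance epsInv_additive (X : C) : (epsInv h X).Additive := (epsAdj h X).left_adjoint_additive

theorem injective_eps {X : C} (I : Sheaf (J.over X) AddCommGrpCat.{u}) [Injective I] :
    Injective ((eps h X).obj I) :=
  Injective.injective_of_adjoint (epsAdj h X) I

/-- The direct image is fully faithful. -/
noncomputable def epsFF (X : C) : (eps h X).FullyFaithful where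
  preimage φ := ⟨φ.hom⟩
  map_preimage _ := rfl
  preimage_map _ := rfl

instance isIso_counit (X : C) : IsIso (epsAdj h X).counit :=
  have := (epsFF h X).full
  have := (epsFF h X).faithful
  Adjunction.counit_isIso_of_R_fully_faithful _

/-- `ε^{-1} ε_* = 1`. -/
noncomputable def counitIso (X : C) : eps h X ⋙ epsInv h X ≅ 𝟭 _ := asIso (epsAdj h X).counit

section Separated

variable {K : GrothendieckTopology C}

/-- A presheaf is separated: sections agreeing on a covering sieve agree. -/
theorem eq_of_sieve {X : C} {P : (Over X)ᵒᵖ ⥤ AddCommGrpCat.{u}} (hP : Presheaf.IsSheaf (K.over X) P)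
    (U : Over X) (S : Sieve U) (hS : S ∈ K.over X U) (s t : P.obj (op U))
    (hst : ∀ ⦃V : Over X⦄ (g : V ⟶ U), S g → (P.map g.op).hom s = (P.map g.op).hom t) : s = t :=
  (((isSheaf_iff_isSheaf_of_type (K.over X) _).1
    (Presheaf.isSheaf_comp_of_isSheaf (K.over X) P (forget _) hP)).isSeparated S hS).ext hst

/-- A family covering the underlying object covers in the slice. -/
theorem ofArrows_mem {X : C} (U : Over X) {ι : Type u} (V : ι → C) (v : ∀ i, V i ⟶ U.left)
    (hv : Sieve.ofArrows V v ∈ K U.left) :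
    Sieve.ofArrows (fun i => Over.mk (v i ≫ U.hom)) (fun i => (Over.homMk (v i) rfl : Over.mk (v i ≫ U.hom) ⟶ U)) ∈
      K.over X U := by
  rw [GrothendieckTopology.mem_over_iff]
  refine K.superset_covering ?_ hv
  rintro W g ⟨_, a, _, ⟨i⟩, rfl⟩
  refine ⟨Over.mk (a ≫ v i ≫ U.hom), Over.homMk (a ≫ v i) (Category.assoc _ _ _), 𝟙 W, ?_, (Category.id_comp _).symm⟩
  exact ⟨_, (Over.homMk a rfl : Over.mk (a ≫ v i ≫ U.hom) ⟶ Over.mk (v i ≫ U.hom)), _, ⟨i⟩, by ext; rfl⟩

/-- Sections agreeing on the members of a covering family agree. -/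
theorem eq_of_family {X : C} {P : (Over X)ᵒᵖ ⥤ AddCommGrpCat.{u}} (hP : Presheaf.IsSheaf (K.over X) P)
    (U : Over X) {ι : Type u} (V : ι → C) (v : ∀ i, V i ⟶ U.left) (hv : Sieve.ofArrows V v ∈ K U.left)
    (s t : P.obj (op U))
    (hst : ∀ i, (P.map (Over.homMk (v i) rfl : Over.mk (v i ≫ U.hom) ⟶ U).op).hom s = (P.map (Over.homMk (v i) rfl : Over.mk (v i ≫ U.hom) ⟶ U).op).hom t) :
    s = t := by
  refine eq_of_sieve hP U _ (ofArrows_mem U V v hv) s t ?_
  rintro W g ⟨_, a, _, ⟨i⟩, rfl⟩
  rw [op_comp, P.map_comp, ConcreteCategory.comp_apply, ConcreteCategory.comp_apply, hst i]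

/-- A member killed by an exact inverse image has locally vanishing sections. -/
theorem exists_sieve_of_isZero {X : C} (F : Sheaf (J'.over X) AddCommGrpCat.{u})
    (hF : IsZero ((epsInv h X).obj F)) (U : Over X) (s : F.obj.obj (op U)) :
    ∃ S ∈ J U.left, ∀ ⦃V : C⦄ (g : V ⟶ U.left), S g →
      (F.obj.map (Over.homMk g rfl : Over.mk (g ≫ U.hom) ⟶ U).op).hom s = 0 := by
  let e : epsInv h X ≅ sheafToPresheaf _ _ ⋙ presheafToSheaf (J.over X) AddCommGrpCat.{u} :=
    (epsAdj h X).leftAdjointUniq
      (((sheafificationAdjunction (J.over X) AddCommGrpCat.{u}).restrictFullyFaithful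
        (fullyFaithfulSheafToPresheaf (J'.over X) AddCommGrpCat.{u}) (Functor.FullyFaithful.id _)
        (Iso.refl _) (Iso.refl _)))
  have hZ : IsZero ((presheafToSheaf (J.over X) AddCommGrpCat.{u}).obj F.obj) :=
    hF.of_iso (e.app F).symm
  have hloc : Presheaf.IsLocallyInjective (J.over X) (toSheafify (J.over X) F.obj) := inferInstance
  have h0 : ∀ t : (sheafify (J.over X) F.obj).obj (op U), t = 0 := fun t =>
    ConcreteCategory.congr_hom
      ((((sheafToPresheaf (J.over X) AddCommGrpCat.{u}).map_isZero hZ).obj (op U)).eq_of_src (𝟙 _) 0) t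
  have hm := Presheaf.equalizerSieve_mem (J.over X) (toSheafify (J.over X) F.obj) s 0
    ((h0 _).trans (h0 _).symm)
  rw [GrothendieckTopology.mem_over_iff] at hm
  refine ⟨_, hm, ?_⟩
  rintro V g ⟨W, a, b, ha, rfl⟩
  rw [Presheaf.equalizerSieve_apply, map_zero] at ha
  let b' : Over.mk ((b ≫ a.left) ≫ U.hom) ⟶ W := Over.homMk b (by simp)
  change (F.obj.map (Over.homMk (b ≫ a.left) rfl : Over.mk ((b ≫ a.left) ≫ U.hom) ⟶ U).op).hom s = 0
  rw [show (Over.homMk (b ≫ a.left) rfl : Over.mk ((b ≫ a.left) ≫ U.hom) ⟶ U) = b' ≫ a by ext; rfl,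
    op_comp, F.obj.map_comp, ConcreteCategory.comp_apply]
  exact (congrArg (F.obj.map b'.op).hom ha).trans (map_zero _)

end Separated

end Groth.Agent.EpsCmp
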