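import Groth.Agent.EpsCmp.Main
import Groth.Agent.SiteCoh.CohPresheaf

/-!
# Comparing cohomology and direct images for two topologies
-/

set_option autoImplicit false

universe u

open CategoryTheory CategoryTheory.Limits Opposite HomologicalComplex

namespace Groth.Agent.EpsCmp

namespace Hyper

universe v v' u'

variable {B : Type u'} [Category.{v} B] [Abelian B] [HasInjectiveResolutions B] {D : Type u} [Category.{v'} D]
  [Abelian D] (G : B ⥤ D) [G.Additive] [PreservesFiniteLimits G] (L : CochainComplex B ℕ)

/-- Homology of the image below the first nonvanishing degree is a derived functor. -/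
theorem nonempty_homology_iso (hI : ∀ i, Injective (L.X i)) (n : ℕ)
    (hH : ∀ i, 1 ≤ i → i ≤ n → IsZero (L.homology i)) :
    ∀ i ≤ n, Nonempty ((im G L).homology i ≅ (G.rightDerived i).obj (L.cycles 0)) := by
  intro i hi
  cases i with
  | zero =>
    exact ⟨(G.rightDerivedZeroIsoSelf.app _ ≪≫ asIso (zMap G L 0) ≪≫ (im G L).isoHomologyπ₀).symm⟩
  | succ i =>
    have hz : IsIso (kernel.ι (can G L (i + 1))) :=
      isIso_kernel_ι_of_eq_zero ((Functor.map_isZero G (hH (i + 1) (by omega) hi)).eq_of_tgt _ 0)
    have := hI i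
    obtain ⟨e₁⟩ := nonempty_kernel_can_iso G L i
    obtain ⟨e₂⟩ := cokernel_iso G (sesZ_shortExact L i)
    obtain ⟨e₃⟩ := cycles_iso G L hI n hH i (by omega) 0
    exact ⟨(asIso (kernel.ι (can G L (i + 1)))).symm ≪≫ e₁.symm ≪≫ e₂ ≪≫ e₃ ≪≫
      eqToIso (by rw [show 0 + 1 + i = i + 1 by omega])⟩

end Hyper

variable {C : Type u} [SmallCategory C] {J J' : GrothendieckTopology C} {h : J' ≤ J}
  {A' : ∀ X : C, ObjectProperty (Sheaf (J'.over X) AddCommGrpCat.{u})} [∀ X : C, WSerre.IsWeakSerre (A' X)]

/-- The direct image of a resolution is a resolution when the higher direct images vanish. -/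
noncomputable def epsResolution (hV : ∀ n, Van h A' n) {X : C} {F : Sheaf (J.over X) AddCommGrpCat.{u}}
    (hF : InA h A' X F) (R : InjectiveResolution F) : InjectiveResolution ((eps h X).obj F) where
  cocomplex := Hyper.im (eps h X) R.cocomplex
  injective i := by
    have := R.injective i
    exact injective_eps h (R.cocomplex.X i)
  ι := (CochainComplex.fromSingle₀Equiv (Hyper.im (eps h X) R.cocomplex) ((eps h X).obj F)).symm
    ⟨(eps h X).map (RDerLES.ι0 R),
      ((eps h X).map_comp _ _).symm.trans ((congrArg (eps h X).map (RDerLES.ι0_d R)).trans ((eps h X).map_zero _ _))⟩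
  quasiIso := by
    rw [quasiIso_iff]
    intro i
    cases i with
    | zero =>
      rw [CochainComplex.quasiIsoAt₀_iff, ShortComplex.quasiIso_iff_of_zeros]
      rotate_left
      · simp <;> rfl
      · simp <;> rfl
      · simp <;> rfl
      have he := R.exact₀.map_of_mono_of_preservesKernel (eps h X) (inferInstanceAs (Mono (RDerLES.ι0 R))) inferInstance
      refine ⟨ShortComplex.exact_of_iso (ShortComplex.isoMk (Iso.refl _) (Iso.refl _) (Iso.refl _) ?_ ?_) he, ?_⟩
      · simp [RDerLES.ι0]
      · simp
      · have : Mono ((eps h X).map (RDerLES.ι0 R)) := inferInstance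
        simp
        exact this
    | succ i =>
      rw [quasiIsoAt_iff_exactAt _ _ (CochainComplex.exactAt_succ_single_obj _ _),
        exactAt_iff_isZero_homology]
      exact isZero_homology_eps (hV (i + 1)) (good_resolution hF R) (i + 1) (by omega) le_rfl

/-- Cohomology of a member agrees for the two topologies. -/
theorem nonempty_HU_equiv (hV : ∀ n, Van h A' n) {X : C} (F : Sheaf (J.over X) AddCommGrpCat.{u})
    (hF : InA h A' X F) (n : ℕ) (U : Over X) :
    Nonempty (CohSite.HU ((eps h X).obj F) n U ≃+ CohSite.HU F n U) := by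
  let R := injectiveResolution F
  obtain ⟨e₁⟩ := SiteCoh.CohPresheaf.nonempty_homology_iso (epsResolution hV hF R) n
  obtain ⟨e₂⟩ := SiteCoh.CohPresheaf.nonempty_homology_iso R n
  exact ⟨((e₁.symm.app (op U)) ≪≫ e₂.app (op U)).addCommGroupIsoToAddEquiv⟩

end Groth.Agent.EpsCmp
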