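import Groth.Agent.EpsCmp.Main
import Groth.Agent.SiteCoh.PushNat
import Mathlib.CategoryTheory.Sites.CoverLifting
import Mathlib.CategoryTheory.Comma.Over.Pullback

/-!
# Classes killed after a covering family of the coarser topology
-/

set_option autoImplicit false

universe u

open CategoryTheory CategoryTheory.Limits Opposite HomologicalComplex

namespace Groth.Agent.EpsCmp

section General

variable {C : Type u} [SmallCategory C] {K : GrothendieckTopology C}

/-- A section dies on a covering sieve when the sheafification vanishes on it. -/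
theorem equalizerSieve_mem_of_eq {P : Cᵒᵖ ⥤ AddCommGrpCat.{u}} {U : C} (s : P.obj (op U))
    (hs : ((toSheafify K P).app (op U)).hom s = 0) : Presheaf.equalizerSieve s 0 ∈ K U :=
  Presheaf.equalizerSieve_mem K (toSheafify K P) s 0 (hs.trans (map_zero _).symm)

/-- Cohomology classes of positive degree vanish locally. -/
theorem exists_sieve_res (F : Sheaf K AddCommGrpCat.{u}) (n : ℕ) {U : C} (x : CohSite.HU F (n + 1) U) :
    ∃ S ∈ K U, ∀ ⦃V : C⦄ (g : V ⟶ U), S g → CohSite.res F (n + 1) g x = 0 := by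
  let R := injectiveResolution F
  obtain ⟨e⟩ := SiteCoh.CohPresheaf.nonempty_homology_iso R (n + 1)
  have hz : IsZero ((presheafToSheaf K AddCommGrpCat.{u}).obj (F.cohomologyPresheaf (n + 1))) :=
    ((exactAt_iff_isZero_homology _ _).1 (R.cocomplex_exactAt_succ n)).of_iso
      ((presheafToSheaf K AddCommGrpCat.{u}).mapIso e.symm ≪≫
        (ShortComplex.mapHomologyIso ((SiteCoh.CohPresheaf.cx R).sc (n + 1)) (presheafToSheaf K AddCommGrpCat.{u})).symm ≪≫
        (HomologicalComplex.homologyFunctor _ _ (n + 1)).mapIso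
          ((NatIso.mapHomologicalComplex (asIso (sheafificationAdjunction K AddCommGrpCat.{u}).counit) _).app R.cocomplex))
  refine ⟨_, equalizerSieve_mem_of_eq (K := K) (P := F.cohomologyPresheaf (n + 1)) x ?_, fun V g hg => ?_⟩
  · exact ConcreteCategory.congr_hom
      ((((sheafToPresheaf K AddCommGrpCat.{u}).map_isZero hz).obj (op U)).eq_of_tgt ((toSheafify K _).app (op U)) 0) x
  · exact hg.trans (map_zero _)

theorem res_comp (F : Sheaf K AddCommGrpCat.{u}) (n : ℕ) {U V W : C} (f : W ⟶ V) (g : V ⟶ U)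
    (x : CohSite.HU F n U) : CohSite.res F n f (CohSite.res F n g x) = CohSite.res F n (f ≫ g) x :=
  (ConcreteCategory.congr_hom ((Sheaf.cohomologyPresheaf.{u} F n).map_comp g.op f.op) x).symm

end General

variable {C : Type u} [SmallCategory C] {J J' : GrothendieckTopology C}
  {A' : ∀ X : C, ObjectProperty (Sheaf (J'.over X) AddCommGrpCat.{u})} [∀ X : C, WSerre.IsWeakSerre (A' X)]
  {P : MorphismProperty C}

/-- A class with equal restrictions along the two projections dies after a covering family of the coarser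
topology. -/
theorem exists_family_res_zero
    (h2 : ∀ ⦃X Y : C⦄ (f : X ⟶ Y) (F' : Sheaf (J'.over Y) AddCommGrpCat.{u}), A' Y F' →
      A' X ((CohSite.push (J'.over Y) (J'.over X) (Over.map f)).obj F'))
    (h3 : ∀ (X : C) (F' : Sheaf (J'.over X) AddCommGrpCat.{u}), A' X F' → Presheaf.IsSheaf (J.over X) F'.obj)
    (h4 : ∀ ⦃X Y : C⦄ (f : X ⟶ Y)
      [((Over.map f).sheafPushforwardCocontinuous AddCommGrpCat.{u} (J'.over X) (J'.over Y)).Additive],
      P f → ∀ (F' : Sheaf (J'.over X) AddCommGrpCat.{u}), A' X F' → ∀ i : ℕ,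
        A' Y ((((Over.map f).sheafPushforwardCocontinuous AddCommGrpCat.{u} (J'.over X) (J'.over Y)).rightDerived i).obj F'))
    {X Y : C} (f : X ⟶ Y) [HasPullbacksAlong f] (hf : P f)
    (hcov : Sieve.ofArrows (fun _ : PUnit.{u + 1} => X) (fun _ => f) ∈ J Y)
    (F' : Sheaf (J'.over Y) AddCommGrpCat.{u}) (hF' : A' Y F') (n : ℕ)
    (θ : CohSite.HU F' (n + 1) (Over.mk f))
    (hθ : ∀ (W : C) (p q : W ⟶ X) (hW : IsPullback p q f f),
      CohSite.res F' (n + 1) (Over.homMk p rfl : Over.mk (p ≫ f) ⟶ Over.mk f) θ =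
        CohSite.res F' (n + 1) (Over.homMk q hW.w.symm : Over.mk (p ≫ f) ⟶ Over.mk f) θ) :
    ∃ (ι : Type u) (Z : ι → C) (g : ∀ i, Z i ⟶ Y), Sieve.ofArrows Z g ∈ J' Y ∧
      ∀ (i : ι) (W : C) (p : W ⟶ Z i) (q : W ⟶ X), IsPullback p q (g i) f →
        CohSite.res F' (n + 1) (Over.homMk q rfl : Over.mk (q ≫ f) ⟶ Over.mk f) θ = 0 := by
  let G := Over.pullback f
  let adj : Over.map f ⊣ G := Over.mapPullbackAdj f
  have : G.IsContinuous (J'.over Y) (J'.over X) := adj.isContinuous_of_isCocontinuous (J'.over X) (J'.over Y)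
  let u := G ⋙ Over.map f
  have : u.IsContinuous (J'.over Y) (J'.over Y) :=
    Functor.isContinuous_comp G (Over.map f) (J'.over Y) (J'.over X) (J'.over Y)
  -- the direct image along `u` is restriction followed by direct image
  let adjG : rs J' f ⊣ CohSite.push (J'.over X) (J'.over Y) G :=
    adj.sheafPushforwardContinuous (J'.over X) (J'.over Y)
  let e : pf J' f ≅ CohSite.push (J'.over X) (J'.over Y) G := (rsAdj J' f).rightAdjointUniq adjG
  let R := injectiveResolution F'
  let R₁ : CochainComplex (Sheaf (J'.over X) AddCommGrpCat.{u}) ℕ := ((rs J' f).mapHomologicalComplex (ComplexShape.up ℕ)).obj R.cocomplex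
  have hinj : ∀ i, Injective (R₁.X i) := fun i => by
    have := R.injective i
    exact injective_rs f (R.cocomplex.X i)
  have hz : ∀ i, 1 ≤ i → i ≤ n + 1 → IsZero (R₁.homology i) := fun i hi _ => by
    obtain ⟨k, rfl⟩ : ∃ k, i = k + 1 := ⟨i - 1, by omega⟩
    exact ((rs J' f).map_isZero ((exactAt_iff_isZero_homology _ _).1 (R.cocomplex_exactAt_succ k))).of_iso
      (ShortComplex.mapHomologyIso (R.cocomplex.sc (k + 1)) (rs J' f))
  have h0 : A' X (R₁.cycles 0) :=
    (A' X).prop_of_iso ((rs J' f).mapIso (RDerLES.h0Iso R) ≪≫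
      (ShortComplex.mapHomologyIso (R.cocomplex.sc 0) (rs J' f)).symm ≪≫ R₁.isoHomologyπ₀.symm) (h2 f F' hF')
  have hE : A' Y ((Hyper.im (pf J' f) R₁).homology (n + 1)) :=
    Hyper.prop_homology (pf J' f) R₁ hinj (A' Y) (n + 1) hz (fun q => h4 f hf _ h0 q) (n + 1) le_rfl
  let Q : (Over Y)ᵒᵖ ⥤ AddCommGrpCat.{u} := u.op ⋙ F'.cohomologyPresheaf (n + 1)
  have hM : A' Y ((presheafToSheaf (J'.over Y) AddCommGrpCat.{u}).obj Q) :=
    (A' Y).prop_of_iso ((HomologicalComplex.homologyFunctor _ _ (n + 1)).mapIso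
        ((NatIso.mapHomologicalComplex e (ComplexShape.up ℕ)).app R₁) ≪≫
      (R.isoRightDerivedObj (CohSite.push (J'.over Y) (J'.over Y) u) (n + 1)).symm ≪≫
      SiteCoh.PushNat.objIso (J'.over Y) u (n + 1) F') hE
  have hsh := h3 Y _ hM
  let a : u.obj (Over.mk (𝟙 Y)) ⟶ Over.mk f :=
    Over.homMk (pullback.snd (𝟙 Y) f) rfl
  let θ' : Q.obj (op (Over.mk (𝟙 Y))) := CohSite.res F' (n + 1) a θ
  have hQ : ∀ {Z : Over Y} (b : Z ⟶ Over.mk (𝟙 Y)),
      (Q.map b.op).hom θ' =
        CohSite.res F' (n + 1) (Over.homMk (pullback.snd Z.hom f) rfl : u.obj Z ⟶ Over.mk f) θ := fun {Z} b => by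
    refine (res_comp F' (n + 1) (u.map b) a θ).trans (congrArg (fun c => CohSite.res F' (n + 1) c θ) ?_)
    ext
    exact (pullback.lift_snd _ _ _)
  let η := toSheafify (J'.over Y) Q
  have hη : (η.app (op (Over.mk (𝟙 Y)))).hom θ' = 0 := by
    refine eq_of_family hsh (Over.mk (𝟙 Y)) (fun _ : PUnit.{u + 1} => X) (fun _ => f) hcov _ _ fun _ => ?_
    let b : Over.mk (f ≫ 𝟙 Y) ⟶ Over.mk (𝟙 Y) := Over.homMk f rfl
    refine Eq.trans ?_ (map_zero ((sheafify (J'.over Y) Q).map b.op).hom).symm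
    change ((sheafify (J'.over Y) Q).map b.op).hom ((η.app _).hom θ') = 0
    rw [← ConcreteCategory.comp_apply, ← η.naturality, ConcreteCategory.comp_apply, hQ]
    let Z := Over.mk (f ≫ 𝟙 Y)
    let t : Z ⟶ Over.mk f := Over.homMk (𝟙 X) (by simp [Z])
    let pp : u.obj Z ⟶ Over.mk f := adj.counit.app Z ≫ t
    let qq : u.obj Z ⟶ Over.mk f := Over.homMk (pullback.snd Z.hom f) rfl
    have hpp : CohSite.res F' (n + 1) pp θ = CohSite.res F' (n + 1) qq θ := by
      have hW : IsPullback (pullback.fst Z.hom f) (pullback.snd Z.hom f) f f :=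
        (IsPullback.of_hasPullback Z.hom f).of_iso (Iso.refl _) (Iso.refl _) (Iso.refl _) (Iso.refl _)
          (by simp) (by simp) (by simp [Z]) (by simp)
      let c : u.obj Z ⟶ Over.mk (pullback.fst Z.hom f ≫ f) :=
        Over.homMk (𝟙 _) ((Category.id_comp _).trans hW.w)
      have h := congrArg (CohSite.res F' (n + 1) c) (hθ _ _ _ hW)
      rw [res_comp, res_comp] at h
      refine Eq.trans ?_ (h.trans ?_)
      · refine congrArg (fun c => CohSite.res F' (n + 1) c θ) ?_
        ext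
        simp [pp, c, t, adj]
        exact Category.comp_id _
      · refine congrArg (fun c => CohSite.res F' (n + 1) c θ) ?_
        ext
        simp [qq, c]
    obtain ⟨S, hS, hS'⟩ := exists_sieve_res F' n θ
    change (η.app (op Z)).hom (CohSite.res F' (n + 1) qq θ : Q.obj (op Z)) = (0 : (sheafify (J'.over Y) Q).obj (op Z))
    refine eq_of_sieve ((presheafToSheaf (J'.over Y) AddCommGrpCat.{u}).obj Q).property Z (S.pullback t)
      ((J'.over Y).pullback_stable t hS) _ _ fun V d hd => ?_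
    rw [map_zero, ← ConcreteCategory.comp_apply, ← η.naturality, ConcreteCategory.comp_apply]
    refine (congrArg (η.app (op V)).hom ?_).trans (map_zero _)
    change CohSite.res F' (n + 1) (u.map d) (CohSite.res F' (n + 1) qq θ) = 0
    rw [← hpp, res_comp]
    have hc : u.map d ≫ pp = adj.counit.app V ≫ (d ≫ t) := by
      simp only [pp, ← Category.assoc]
      exact congrArg (· ≫ t) (adj.counit.naturality d)
    rw [hc, ← res_comp, hS' (d ≫ t) hd, map_zero]
  have hS := equalizerSieve_mem_of_eq θ' hη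
  rw [GrothendieckTopology.mem_over_iff] at hS
  set T := (Sieve.overEquiv (Over.mk (𝟙 Y))) (Presheaf.equalizerSieve θ' 0) with hT
  refine ⟨Σ Z : C, {g : Z ⟶ Y // T g}, fun i => i.1, fun i => i.2.1, ?_, ?_⟩
  · refine J'.superset_covering ?_ hS
    intro Z g hg
    exact Sieve.ofArrows_mk _ (fun i : Σ Z : C, {g : Z ⟶ Y // T g} => i.2.1) ⟨Z, g, hg⟩
  · rintro ⟨Z, g, hg⟩ W p q hW
    obtain ⟨O, b, c, hb, hcb⟩ := hg
    have h1 : (Q.map b.op).hom θ' = 0 := hb.trans (map_zero _)
    let c' : Z ⟶ O.left := c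
    have hcb' : g = c' ≫ b.left := hcb
    have hw : g = c' ≫ O.hom :=
      hcb'.trans (congrArg (c' ≫ ·) ((Category.comp_id _).symm.trans (Over.w b)))
    let m : Over.mk (q ≫ f) ⟶ u.obj O :=
      Over.homMk (pullback.lift (p ≫ c') q ((Category.assoc _ _ _).trans ((congrArg (p ≫ ·) hw.symm).trans hW.w)))
        (by simp [u, G]; exact pullback.lift_snd_assoc _ _ _ _)
    have hm : (Over.homMk q rfl : Over.mk (q ≫ f) ⟶ Over.mk f) =
        m ≫ (Over.homMk (pullback.snd O.hom f) rfl : u.obj O ⟶ Over.mk f) := by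
      ext
      exact (pullback.lift_snd _ _ _).symm
    rw [hm, ← res_comp, ← hQ b]
    exact (congrArg (CohSite.res F' (n + 1) m) h1).trans (map_zero _)

end Groth.Agent.EpsCmp
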