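import Groth.Agent.EpsCmp.Basic
import Groth.Agent.EpsCmp.Hyper
import Groth.Agent.KFlat.CxAdj
import Mathlib.Algebra.Homology.HomologicalComplexAbelian

/-!
# Vanishing of the higher direct images to the coarser topology
-/

set_option autoImplicit false

universe u

open CategoryTheory CategoryTheory.Limits Opposite HomologicalComplex

namespace Groth.Agent.EpsCmp

variable {C : Type u} [SmallCategory C] {J J' : GrothendieckTopology C}

section Killed

variable {V W : C} (w : W ⟶ V) (E : Sheaf (J'.over V) AddCommGrpCat.{u})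

/-- The sections killed by restriction along an arrow. -/
def killedAt (U : (Over V)ᵒᵖ) : AddSubgroup (E.obj.obj U) where
  carrier := { s | ∀ (U' : Over W) (g : (Over.map w).obj U' ⟶ U.unop), (E.obj.map g.op).hom s = 0 }
  zero_mem' := fun _ _ => map_zero _
  add_mem' := fun {a b} ha hb U' g => by rw [map_add, ha U' g, hb U' g, add_zero]
  neg_mem' := fun {a} ha U' g => by rw [map_neg, ha U' g, neg_zero]

theorem killedAt_map {U U' : (Over V)ᵒᵖ} (f : U ⟶ U') {s : E.obj.obj U} (hs : s ∈ killedAt w E U) :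
    (E.obj.map f).hom s ∈ killedAt w E U' := fun W' g => by
  rw [← ConcreteCategory.comp_apply, ← E.obj.map_comp]
  exact hs W' (g ≫ f.unop)

/-- The presheaf of killed sections. -/
def killedPre : (Over V)ᵒᵖ ⥤ AddCommGrpCat.{u} where
  obj U := AddCommGrpCat.of (killedAt w E U)
  map f := AddCommGrpCat.ofHom
    (((E.obj.map f).hom.comp (killedAt w E _).subtype).codRestrict _ fun s => killedAt_map w E f s.2)
  map_id U := by
    ext s
    exact ConcreteCategory.congr_hom (E.obj.map_id U) s.1
  map_comp f g := by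
    ext s
    exact ConcreteCategory.congr_hom (E.obj.map_comp f g) s.1

theorem isSheaf_killedPre : Presheaf.IsSheaf (J'.over V) (killedPre w E) := by
  refine Presheaf.isSheaf_of_isSheaf_comp (J'.over V) _ (forget AddCommGrpCat.{u}) ?_
  rw [isSheaf_iff_isSheaf_of_type]
  intro U S hS x hx
  have hE : Presieve.IsSheaf (J'.over V) (E.obj ⋙ forget AddCommGrpCat.{u}) :=
    (isSheaf_iff_isSheaf_of_type _ _).1 (Presheaf.isSheaf_comp_of_isSheaf _ E.obj (forget _) E.property)
  let y : Presieve.FamilyOfElements (E.obj ⋙ forget AddCommGrpCat.{u}) S.arrows := fun T g hg => (x g hg).1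
  have hy : y.Compatible := fun Y₁ Y₂ Z g₁ g₂ f₁ f₂ h₁ h₂ e => congrArg Subtype.val (hx g₁ g₂ h₁ h₂ e)
  obtain ⟨s, hs, huniq⟩ := hE S hS y hy
  have hmem : (s : E.obj.obj (op U)) ∈ killedAt w E (op U) := fun U' g => by
    refine eq_of_sieve E.property _ (S.pullback g) ((J'.over V).pullback_stable g hS) _ _ fun T b hb => ?_
    rw [map_zero, ← ConcreteCategory.comp_apply, ← E.obj.map_comp, ← op_comp]
    refine (hs (b ≫ g) hb).trans ?_
    let b₀ : Over.mk (b.left ≫ U'.hom) ⟶ U' := Over.homMk b.left rfl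
    let T' : (Over.map w).obj (Over.mk (b.left ≫ U'.hom)) ⟶ T :=
      Over.homMk (𝟙 T.left) ((Category.id_comp _).trans ((Over.w b).symm.trans (Category.assoc _ _ _).symm))
    let i : T ⟶ (Over.map w).obj (Over.mk (b.left ≫ U'.hom)) :=
      Over.homMk (𝟙 T.left) ((Category.id_comp _).trans ((Category.assoc _ _ _).trans (Over.w b)))
    have h0 := (x (b ≫ g) hb).2 (Over.mk (b.left ≫ U'.hom)) T'
    have hid : i ≫ T' = 𝟙 T := by ext; exact Category.id_comp _
    calc (x (b ≫ g) hb).1 = (E.obj.map (i ≫ T').op).hom (x (b ≫ g) hb).1 := by rw [hid]; simp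
      _ = (E.obj.map i.op).hom ((E.obj.map T'.op).hom (x (b ≫ g) hb).1) := by
        rw [op_comp, E.obj.map_comp, ConcreteCategory.comp_apply]
      _ = 0 := by rw [h0, map_zero]
  refine ⟨⟨s, hmem⟩, fun T g hg => Subtype.ext (hs g hg), fun s' hs' => Subtype.ext ?_⟩
  exact huniq s'.1 fun T g hg => congrArg Subtype.val (hs' g hg)

/-- The sheaf of killed sections. -/
def killed : Sheaf (J'.over V) AddCommGrpCat.{u} := ⟨killedPre w E, isSheaf_killedPre w E⟩

/-- Its inclusion. -/
def killedIncl : killed w E ⟶ E :=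
  ⟨{ app := fun U => AddCommGrpCat.ofHom (killedAt w E U).subtype, naturality := fun _ _ _ => rfl }⟩

theorem rs_killedIncl : (rs J' w).map (killedIncl w E) = 0 := by
  apply Sheaf.hom_ext
  ext U s
  have h : (E.obj.map (𝟙 ((Over.map w).obj U.unop)).op).hom s.1 = 0 := s.2 U.unop (𝟙 _)
  rw [op_id, E.obj.map_id] at h
  exact h

/-- A map into a sheaf for the finer topology killed by restriction along a covering arrow vanishes. -/
theorem eq_zero_of_rs_eq_zero (hcov : Sieve.ofArrows (fun _ : PUnit.{u + 1} => W) (fun _ => w) ∈ J V)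
    {A : Sheaf (J'.over V) AddCommGrpCat.{u}} (hE : Presheaf.IsSheaf (J.over V) E.obj) (φ : A ⟶ E)
    (hφ : (rs J' w).map φ = 0) : φ = 0 := by
  apply Sheaf.hom_ext
  ext U s
  refine eq_of_sieve hE U.unop ((Sieve.overEquiv U.unop).symm
    (Sieve.pullback U.unop.hom (Sieve.ofArrows (fun _ : PUnit.{u + 1} => W) (fun _ => w))))
    ((GrothendieckTopology.overEquiv_symm_mem_over _ _ _) (J.pullback_stable _ hcov)) _ _ ?_
  intro T b hb
  obtain ⟨_, a, _, ⟨⟨⟩⟩, ha⟩ := ((Sieve.overEquiv_symm_iff _ _).1 hb : _)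
  have ha' : a ≫ w = T.hom := ha.trans (Over.w b)
  let i : T ⟶ (Over.map w).obj (Over.mk a) :=
    Over.homMk (𝟙 T.left) ((Category.id_comp _).trans ha')
  let i' : (Over.map w).obj (Over.mk a) ⟶ T :=
    Over.homMk (𝟙 T.left) ((Category.id_comp _).trans ha'.symm)
  have hid : i ≫ i' = 𝟙 T := by ext; exact Category.id_comp _
  have h0 : (φ.hom.app (op ((Over.map w).obj (Over.mk a)))).hom ((A.obj.map (i' ≫ b).op).hom s) = 0 :=
    ConcreteCategory.congr_hom (NatTrans.congr_app (congrArg (·.hom) hφ) (op (Over.mk a))) _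
  rw [← ConcreteCategory.comp_apply, φ.hom.naturality, ConcreteCategory.comp_apply] at h0
  refine Eq.trans ?_ (map_zero (E.obj.map b.op).hom).symm
  calc (E.obj.map b.op).hom ((φ.hom.app U).hom s)
      = (E.obj.map ((i ≫ i') ≫ b).op).hom ((φ.hom.app U).hom s) := by rw [hid, Category.id_comp]
    _ = (E.obj.map i.op).hom ((E.obj.map (i' ≫ b).op).hom ((φ.hom.app U).hom s)) := by
      rw [Category.assoc, op_comp, E.obj.map_comp, ConcreteCategory.comp_apply]
    _ = 0 := (congrArg (E.obj.map i.op).hom h0).trans (map_zero _)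

/-- The unit of restriction along a covering arrow is a monomorphism on the finer topology. -/
theorem mono_unit (hcov : Sieve.ofArrows (fun _ : PUnit.{u + 1} => W) (fun _ => w) ∈ J V)
    (F : Sheaf (J.over V) AddCommGrpCat.{u}) : Mono ((rsAdj J w).unit.app F) := by
  refine Preadditive.mono_of_cancel_zero _ fun {A} φ hφ => ?_
  refine eq_zero_of_rs_eq_zero (J' := J) w F hcov F.property φ ?_
  have h := congrArg (fun t => (rs J w).map t) hφ
  simp only [Functor.map_comp, Functor.map_zero] at h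
  exact (Category.comp_id _).symm.trans ((congrArg ((rs J w).map φ ≫ ·) ((rsAdj J w).left_triangle_components F).symm).trans
    ((Category.assoc _ _ _).symm.trans ((congrArg (· ≫ _) h).trans zero_comp)))

end Killed

variable (h : J' ≤ J) (A' : ∀ X : C, ObjectProperty (Sheaf (J'.over X) AddCommGrpCat.{u}))

/-- The sheaves for the finer topology with direct image in the given class. -/
abbrev InA (X : C) : ObjectProperty (Sheaf (J.over X) AddCommGrpCat.{u}) := (A' X).inverseImage (eps h X)

variable [∀ X : C, WSerre.IsWeakSerre (A' X)]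
  (h3 : ∀ (X : C) (F' : Sheaf (J'.over X) AddCommGrpCat.{u}), A' X F' → Presheaf.IsSheaf (J.over X) F'.obj)

/-- The inverse image of the direct image of an epimorphism is an epimorphism. -/
theorem epi_epsInv_map {X : C} {F G : Sheaf (J.over X) AddCommGrpCat.{u}} (f : F ⟶ G) [Epi f] :
    Epi ((epsInv h X).map ((eps h X).map f)) :=
  ((MorphismProperty.epimorphisms _).arrow_mk_iso_iff
    (Arrow.isoMk ((counitIso h X).app F) ((counitIso h X).app G)
      ((counitIso h X).hom.naturality f).symm :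
      Arrow.mk ((epsInv h X).map ((eps h X).map f)) ≅ Arrow.mk f)).2 ‹_›

section Class

variable {A'} {X : C}
include h3

omit [∀ X : C, WSerre.IsWeakSerre (A' X)] in
/-- The members of the class are direct images. -/
noncomputable def unitIso (M : Sheaf (J'.over X) AddCommGrpCat.{u}) (hM : A' X M) :
    (eps h X).obj ((epsInv h X).obj M) ≅ M :=
  (eps h X).mapIso ((counitIso h X).app ⟨M.obj, h3 X M hM⟩)

omit [∀ X : C, WSerre.IsWeakSerre (A' X)] in
/-- A member killed by the inverse image is zero. -/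
theorem isZero_of_epsInv (M : Sheaf (J'.over X) AddCommGrpCat.{u}) (hM : A' X M)
    (hz : IsZero ((epsInv h X).obj M)) : IsZero M :=
  ((eps h X).map_isZero hz).of_iso (unitIso h h3 M hM).symm

/-- A map of members is epi if its inverse image is. -/
theorem epi_of_epsInv {M N : Sheaf (J'.over X) AddCommGrpCat.{u}} (hM : A' X M) (hN : A' X N) (f : M ⟶ N)
    (hf : Epi ((epsInv h X).map f)) : Epi f := by
  refine Preadditive.epi_of_isZero_cokernel f (isZero_of_epsInv h h3 _ ((A' X).prop_cokernel f hM hN) ?_)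
  exact (isZero_cokernel_of_epi ((epsInv h X).map f)).of_iso (PreservesCokernel.iso (epsInv h X) f)

/-- An epimorphism between members stays epi after direct image. -/
theorem epi_eps_map {F G : Sheaf (J.over X) AddCommGrpCat.{u}} (hF : InA h A' X F) (hG : InA h A' X G)
    (f : F ⟶ G) [Epi f] : Epi ((eps h X).map f) := by
  exact epi_of_epsInv h h3 hF hG _ (epi_epsInv_map h f)

/-- Cokernels of maps of members are members. -/
theorem prop_cokernel {F G : Sheaf (J.over X) AddCommGrpCat.{u}} (hF : InA h A' X F) (hG : InA h A' X G)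
    (f : F ⟶ G) : InA h A' X (cokernel f) := by
  have hM : A' X (cokernel ((eps h X).map f)) := (A' X).prop_cokernel _ hF hG
  refine (A' X).prop_of_iso ((unitIso h h3 _ hM).symm ≪≫ (eps h X).mapIso
    (PreservesCokernel.iso (epsInv h X) ((eps h X).map f) ≪≫
      cokernel.mapIso _ _ ((counitIso h X).app F) ((counitIso h X).app G) ?_)) hM
  exact (counitIso h X).hom.naturality f

end Class

/-- Complexes resolving a member by injectives. -/
structure Good (X : C) (I : CochainComplex (Sheaf (J.over X) AddCommGrpCat.{u}) ℕ) : Prop where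
  inj : ∀ i, Injective (I.X i)
  exact' : ∀ i, 1 ≤ i → IsZero (I.homology i)
  mem : InA h A' X (I.homology 0)

/-- Vanishing of the direct images up to a degree. -/
def Van (n : ℕ) : Prop :=
  ∀ (Z : C) (G : Sheaf (J.over Z) AddCommGrpCat.{u}), InA h A' Z G →
    ∀ i : ℕ, 1 ≤ i → i ≤ n → IsZero (((eps h Z).rightDerived i).obj G)

variable {h A'} {P : MorphismProperty C}
  (h2 : ∀ ⦃X Y : C⦄ (f : X ⟶ Y) (F' : Sheaf (J'.over Y) AddCommGrpCat.{u}), A' Y F' →
      A' X ((CohSite.push (J'.over Y) (J'.over X) (Over.map f)).obj F'))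
  (h4 : ∀ ⦃X Y : C⦄ (f : X ⟶ Y)
      [((Over.map f).sheafPushforwardCocontinuous AddCommGrpCat.{u} (J'.over X) (J'.over Y)).Additive],
      P f → ∀ (F' : Sheaf (J'.over X) AddCommGrpCat.{u}), A' X F' → ∀ i : ℕ,
        A' Y ((((Over.map f).sheafPushforwardCocontinuous AddCommGrpCat.{u} (J'.over X) (J'.over Y)).rightDerived i).obj F'))

theorem Van.derived {n : ℕ} (hV : Van h A' n) {X : C} {I : CochainComplex (Sheaf (J.over X) AddCommGrpCat.{u}) ℕ}
    (hI : Good h A' X I) (i : ℕ) (p : ℕ) (hp : 1 ≤ p) (hpn : p ≤ n) :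
    IsZero (((eps h X).rightDerived p).obj (I.homology i)) := by
  rcases i with _ | i
  · exact hV X _ hI.mem p hp hpn
  · have := RDer.rightDerived_additive (eps h X) p
    exact ((eps h X).rightDerived p).map_isZero (hI.exact' (i + 1) (by omega))

theorem isZero_homology_eps {n : ℕ} (hV : Van h A' n) {X : C}
    {I : CochainComplex (Sheaf (J.over X) AddCommGrpCat.{u}) ℕ} (hI : Good h A' X I) (i : ℕ) (hi : 1 ≤ i)
    (hin : i ≤ n) : IsZero ((Hyper.im (eps h X) I).homology i) := by
  have := Hyper.mono_can (eps h X) I hI.inj i fun j _ p hp hpi => hV.derived hI j p hp (le_trans hpi hin)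
  exact IsZero.of_mono (Hyper.can (eps h X) I i) ((eps h X).map_isZero (hI.exact' i hi))

include h2 in
theorem Good.rs {X Y : C} (f : X ⟶ Y) {I : CochainComplex (Sheaf (J.over Y) AddCommGrpCat.{u}) ℕ}
    (hI : Good h A' Y I) : Good h A' X (((EpsCmp.rs J f).mapHomologicalComplex _).obj I) where
  inj i := by
    have := hI.inj i
    exact injective_rs f (I.X i)
  exact' i hi := ((EpsCmp.rs J f).map_isZero (hI.exact' i hi)).of_iso (ShortComplex.mapHomologyIso (I.sc i) (EpsCmp.rs J f))
  mem := (A' X).prop_of_iso ((eps h X).mapIso (ShortComplex.mapHomologyIso (I.sc 0) (EpsCmp.rs J f)).symm)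
    (h2 f _ hI.mem)

include h4 in
theorem prop_derived_push {n : ℕ} (hV : Van h A' n) {V W : C} (w : W ⟶ V) (hw : P w)
    {Jc : CochainComplex (Sheaf (J.over W) AddCommGrpCat.{u}) ℕ} (hJ : Good h A' W Jc) :
    (∀ i ≤ n, A' V ((Hyper.im (pf J' w) (Hyper.im (eps h W) Jc)).homology i)) ∧
      A' V (kernel (Hyper.can (pf J' w) (Hyper.im (eps h W) Jc) (n + 1))) := by
  have hinj : ∀ i, Injective ((Hyper.im (eps h W) Jc).X i) := fun i => by
    have := hJ.inj i
    exact injective_eps h (Jc.X i)
  have hz : ∀ i, 1 ≤ i → i ≤ n → IsZero ((Hyper.im (eps h W) Jc).homology i) := isZero_homology_eps hV hJ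
  have h0 : A' W ((Hyper.im (eps h W) Jc).cycles 0) :=
    (A' W).prop_of_iso ((eps h W).mapIso Jc.isoHomologyπ₀.symm ≪≫ asIso (Hyper.zMap (eps h W) Jc 0)) hJ.mem
  have hP : ∀ q, A' V (((pf J' w).rightDerived q).obj ((Hyper.im (eps h W) Jc).cycles 0)) := h4 w hw _ h0
  exact ⟨Hyper.prop_homology (pf J' w) _ hinj (A' V) n hz hP,
    Hyper.prop_kernel_can (pf J' w) _ hinj (A' V) n hz hP n le_rfl⟩

include h2 h3 h4 in
/-- A subsheaf of the first unknown direct image killed by a covering arrow in `P` is zero. -/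
theorem eq_zero_step {n : ℕ} (hV : Van h A' n) {V W : C} (w : W ⟶ V) (hw : P w)
    (hcov : Sieve.ofArrows (fun _ : PUnit.{u + 1} => W) (fun _ => w) ∈ J V)
    {I : CochainComplex (Sheaf (J.over V) AddCommGrpCat.{u}) ℕ} (hI : Good h A' V I)
    {T : Sheaf (J'.over V) AddCommGrpCat.{u}} (φ : T ⟶ (Hyper.im (eps h V) I).homology (n + 1))
    (hφ : (EpsCmp.rs J' w).map φ = 0) : φ = 0 := by
  let Jc := ((EpsCmp.rs J w).mapHomologicalComplex (ComplexShape.up ℕ)).obj I
  have hJ : Good h A' W Jc := hI.rs h2 w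
  obtain ⟨hK, hker⟩ := prop_derived_push h4 hV w hw hJ
  let K := ((pf J w).mapHomologicalComplex (ComplexShape.up ℕ)).obj Jc
  let η : I ⟶ K := (KFlat.CxAdj.mapCx (rsAdj J w) (ComplexShape.up ℕ)).unit.app I
  have : ∀ i, Mono (η.f i) := fun i => mono_unit w hcov (I.X i)
  have : Mono η := HomologicalComplex.mono_of_mono_f η inferInstance
  let S := ShortComplex.mk η (cokernel.π η) (cokernel.condition η)
  have hS : S.ShortExact := { exact := ShortComplex.exact_cokernel η }
  let sp : ∀ i, (S.map (HomologicalComplex.eval _ _ i)).Splitting := fun i =>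
    have := hI.inj i
    have : Injective (S.map (HomologicalComplex.eval _ _ i)).X₁ := hI.inj i
    ((HomologicalComplex.shortExact_iff_degreewise_shortExact S).1 hS i).splittingOfInjective
  have hLinj : ∀ i, Injective ((cokernel η).X i) := fun i => by
    have : Injective (K.X i) :=
      have := hJ.inj i
      injective_pf w (Jc.X i)
    have : Injective (S.map (HomologicalComplex.eval _ _ i)).X₂ := this
    exact (Retract.mk (sp i).s (S.map (HomologicalComplex.eval _ _ i)).g (sp i).s_g).injective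
  have hS' : (S.map ((eps h V).mapHomologicalComplex (ComplexShape.up ℕ))).ShortExact :=
    HomologicalComplex.shortExact_of_degreewise_shortExact _ fun i => ((sp i).map (eps h V)).shortExact
  have hKA : ∀ i ≤ n, InA h A' V (K.homology i) := fun i hi => by
    have hm : A' V ((Hyper.im (eps h V) K).homology i) := hK i hi
    exact (A' V).prop_of_iso ((unitIso h h3 _ hm).symm ≪≫ (eps h V).mapIso
      ((ShortComplex.mapHomologyIso (((Hyper.im (eps h V) K)).sc i) (epsInv h V)).symm ≪≫
        (HomologicalComplex.homologyFunctor _ _ i).mapIso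
          ((NatIso.mapHomologicalComplex (counitIso h V) (ComplexShape.up ℕ)).app K))) hm
  have hLA : ∀ i ≤ n, InA h A' V ((cokernel η).homology i) := fun i hi => by
    have hIA : InA h A' V (I.homology i) := by
      rcases i with _ | i
      · exact hI.mem
      · exact (A' V).prop_of_isZero ((eps h V).map_isZero (hI.exact' (i + 1) (by omega)))
    have : Epi (homologyMap S.g i) :=
      (hS.homology_exact₃ i (i + 1) rfl).epi_f ((hI.exact' (i + 1) (by omega)).eq_of_tgt _ _)
    exact (A' V).prop_of_iso ((eps h V).mapIso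
      (IsColimit.coconePointUniqueUpToIso (cokernelIsCokernel _) (hS.homology_exact₂ i).gIsCokernel))
      (prop_cokernel h h3 hIA (hKA i hi) (homologyMap S.f i))
  have hmono : Mono (Hyper.can (eps h V) (cokernel η) n) :=
    Hyper.mono_can (eps h V) _ hLinj n fun i hi p hp hpn => hV V _ (hLA i hi.le) p hp hpn
  have hcanK : Epi (Hyper.can (eps h V) K n) := by
    refine epi_of_epsInv h h3 (hK n le_rfl) (hKA n le_rfl) _ ?_
    have h₁ : Epi ((epsInv h V).map ((eps h V).map (K.homologyπ n))) := epi_epsInv_map h _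
    have h₂ : Epi ((epsInv h V).map (inv (Hyper.zMap (eps h V) K n))) := inferInstance
    have : Epi ((epsInv h V).map ((Hyper.im (eps h V) K).homologyπ n) ≫
        (epsInv h V).map (Hyper.can (eps h V) K n)) := by
      rw [← Functor.map_comp, Hyper.π_can, Functor.map_comp]
      exact @epi_comp _ _ _ _ _ _ h₂ _ h₁
    exact @epi_of_epi _ _ _ _ _ ((epsInv h V).map ((Hyper.im (eps h V) K).homologyπ n)) _ this
  have hg : Epi (homologyMap (((eps h V).mapHomologicalComplex (ComplexShape.up ℕ)).map S.g) n) := by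
    have : Epi (homologyMap S.g n) :=
      (hS.homology_exact₃ n (n + 1) rfl).epi_f ((hI.exact' (n + 1) (by omega)).eq_of_tgt _ _)
    have he := epi_eps_map h h3 (hKA n le_rfl) (hLA n le_rfl) (homologyMap S.g n)
    have hc := Hyper.can_naturality (eps h V) n S.g
    have hcomp : Epi (homologyMap (((eps h V).mapHomologicalComplex (ComplexShape.up ℕ)).map S.g) n ≫
        Hyper.can (eps h V) (cokernel η) n) := by
      rw [hc]; exact @epi_comp _ _ _ _ _ _ hcanK _ he
    have : Epi (Hyper.can (eps h V) (cokernel η) n) := @epi_of_epi _ _ _ _ _ _ _ hcomp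
    have := isIso_of_mono_of_epi (Hyper.can (eps h V) (cokernel η) n)
    exact ((MorphismProperty.epimorphisms _).cancel_right_of_respectsIso _ _).1 hcomp
  have hδ : hS'.δ n (n + 1) rfl = 0 :=
    (@cancel_epi _ _ _ _ _ _ hg _ _).1 ((hS'.comp_δ n (n + 1) rfl).trans comp_zero.symm)
  let a : (Hyper.im (eps h V) I).homology (n + 1) ⟶
      (Hyper.im (pf J' w) (Hyper.im (eps h W) Jc)).homology (n + 1) :=
    homologyMap (((eps h V).mapHomologicalComplex (ComplexShape.up ℕ)).map η) (n + 1)
  have ha : Mono a := (hS'.homology_exact₁ n (n + 1) rfl).mono_g hδ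
  let b := Hyper.can (pf J' w) (Hyper.im (eps h W) Jc) (n + 1)
  have hab : (φ ≫ a) ≫ b = 0 := by
    refine ((rsAdj J' w).homEquiv _ _).symm.injective ?_
    rw [Category.assoc, Adjunction.homEquiv_naturality_left_symm, hφ, zero_comp]
    simp [Adjunction.homEquiv_counit]
  let c := kernel.lift b (φ ≫ a) hab
  have hc : c = 0 := by
    refine eq_zero_of_rs_eq_zero w _ hcov (h3 V _ hker) c ?_
    have : Mono ((EpsCmp.rs J' w).map (kernel.ι b)) :=
      have := (Groth.Agent.EpsCmp.ExtMap.exact_pullback J' w).1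
      have : (EpsCmp.rs J' w).IsRightAdjoint :=
        ((Over.map w).sheafAdjunctionContinuous AddCommGrpCat.{u} (J'.over W) (J'.over V)).isRightAdjoint
      inferInstance
    rw [← cancel_mono ((EpsCmp.rs J' w).map (kernel.ι b)), ← Functor.map_comp, zero_comp,
      kernel.lift_ι, Functor.map_comp, hφ, zero_comp]
  rw [← cancel_mono a, zero_comp, ← kernel.lift_ι b (φ ≫ a) hab]
  exact (congrArg (· ≫ kernel.ι b) hc).trans zero_comp

include h2 h3 h4 in
/-- Sections of the first unknown direct image vanish. -/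
theorem section_eq_zero
    (h5 : ∀ (U : C) (S : Sieve U), S ∈ J U → ∃ (ι : Type u) (V : ι → C) (v : ∀ j, V j ⟶ U),
      Sieve.ofArrows V v ∈ J' U ∧ ∀ j, ∃ (W : C) (w : W ⟶ V j), P w ∧
        Sieve.ofArrows (fun _ : PUnit.{u + 1} => W) (fun _ => w) ∈ J (V j) ∧
        ∃ (κ : Type u) (Wk : κ → C) (wk : ∀ k, Wk k ⟶ W), Sieve.ofArrows Wk wk ∈ J' W ∧
          ∀ k, S.arrows (wk k ≫ w ≫ v j))
    {n : ℕ} (hV : Van h A' n) {Z : C} {I : CochainComplex (Sheaf (J.over Z) AddCommGrpCat.{u}) ℕ}
    (hI : Good h A' Z I) (U : Over Z) (s : ((Hyper.im (eps h Z) I).homology (n + 1)).obj.obj (op U)) : s = 0 := by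
  let E := (Hyper.im (eps h Z) I).homology (n + 1)
  have hz : IsZero ((epsInv h Z).obj E) :=
    (hI.exact' (n + 1) (by omega)).of_iso ((ShortComplex.mapHomologyIso _ (epsInv h Z)).symm ≪≫
      (HomologicalComplex.homologyFunctor _ _ (n + 1)).mapIso
        ((NatIso.mapHomologicalComplex (counitIso h Z) (ComplexShape.up ℕ)).app I))
  obtain ⟨S, hS, hs⟩ := exists_sieve_of_isZero h E hz U s
  have hkill : ∀ (O : Over Z) (g : O ⟶ U), S g.left → (E.obj.map g.op).hom s = 0 := fun O g hg => by
    let i : O ⟶ Over.mk (g.left ≫ U.hom) := Over.homMk (𝟙 O.left) ((Category.id_comp _).trans (Over.w g))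
    rw [show g = i ≫ (Over.homMk g.left rfl : Over.mk (g.left ≫ U.hom) ⟶ U) by ext; exact (Category.id_comp _).symm,
      op_comp, E.obj.map_comp, ConcreteCategory.comp_apply]
    exact (congrArg (E.obj.map i.op).hom (hs _ hg)).trans (map_zero _)
  obtain ⟨ι, V, v, hv, hj⟩ := h5 U.left S hS
  refine eq_of_family E.property U V v hv s 0 fun j => ?_
  rw [map_zero]
  obtain ⟨W, w, hw, hwcov, κ, Wk, wk, hwk, hwS⟩ := hj j
  let a : V j ⟶ Z := v j ≫ U.hom
  let d : Over.mk (𝟙 (V j) ≫ a) ⟶ U := Over.homMk (v j) (Category.id_comp a).symm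
  have e : (EpsCmp.rs J' a).obj E ≅
      (Hyper.im (eps h (V j)) (((EpsCmp.rs J a).mapHomologicalComplex (ComplexShape.up ℕ)).obj I)).homology (n + 1) :=
    (ShortComplex.mapHomologyIso ((Hyper.im (eps h Z) I).sc (n + 1)) (EpsCmp.rs J' a)).symm
  let E' := (EpsCmp.rs J' a).obj E
  let s' : E'.obj.obj (op (Over.mk (𝟙 (V j)))) := (E.obj.map d.op).hom s
  have hk : s' ∈ killedAt w E' (op (Over.mk (𝟙 (V j)))) := fun U' g => by
    have hg : g.left = U'.hom ≫ w := (Category.comp_id _).symm.trans (Over.w g)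
    refine eq_of_sieve E.property ((Over.map a).obj ((Over.map w).obj U'))
      ((Sieve.overEquiv ((Over.map a).obj ((Over.map w).obj U'))).symm (Sieve.pullback U'.hom (Sieve.ofArrows Wk wk)))
      ((GrothendieckTopology.overEquiv_symm_mem_over _ _ _) (J'.pullback_stable _ hwk)) _ _ ?_
    intro T b hb
    obtain ⟨_, c, _, ⟨k⟩, hc⟩ := ((Sieve.overEquiv_symm_iff _ _).1 hb : _)
    refine Eq.trans ?_ (map_zero (E.obj.map b.op).hom).symm
    change (E.obj.map b.op).hom ((E.obj.map ((Over.map a).map g).op).hom ((E.obj.map d.op).hom s)) = 0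
    rw [← ConcreteCategory.comp_apply, ← E.obj.map_comp, ← ConcreteCategory.comp_apply, ← E.obj.map_comp,
      ← op_comp, ← op_comp]
    refine hkill _ _ ?_
    have hk : ((b ≫ (Over.map a).map g) ≫ d).left = c ≫ wk k ≫ w ≫ v j := by
      change (b.left ≫ g.left) ≫ v j = _
      rw [hg, ← Category.assoc b.left U'.hom w, ← hc]
      simp
    rw [hk]
    exact S.downward_closed (hwS k) c
  have hφ := eq_zero_step h3 h2 h4 hV w hw hwcov (hI.rs h2 a) (killedIncl w E' ≫ e.hom)
    (by rw [Functor.map_comp, rs_killedIncl, zero_comp])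
  have h0 : killedIncl w E' = 0 := by rw [← cancel_mono e.hom, hφ, zero_comp]
  have h1 : s' = 0 := ConcreteCategory.congr_hom
    (NatTrans.congr_app (congrArg (·.hom) h0) (op (Over.mk (𝟙 (V j))))) ⟨s', hk⟩
  let q : Over.mk (v j ≫ U.hom) ⟶ Over.mk (𝟙 (V j) ≫ a) := Over.homMk (𝟙 _) (by simp [a])
  rw [show (Over.homMk (v j) rfl : Over.mk (v j ≫ U.hom) ⟶ U) = q ≫ d by ext; exact (Category.id_comp _).symm,
    op_comp, E.obj.map_comp, ConcreteCategory.comp_apply]
  exact (congrArg (E.obj.map q.op).hom h1).trans (map_zero _)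

theorem good_resolution {X : C} {F : Sheaf (J.over X) AddCommGrpCat.{u}} (hF : InA h A' X F)
    (R : InjectiveResolution F) : Good h A' X R.cocomplex where
  inj i := R.injective i
  exact' i hi := by
    obtain ⟨k, rfl⟩ : ∃ k, i = k + 1 := ⟨i - 1, by omega⟩
    exact (exactAt_iff_isZero_homology _ _).1 (R.cocomplex_exactAt_succ k)
  mem := (A' X).prop_of_iso ((eps h X).mapIso (RDerLES.h0Iso R)) hF

include h2 h3 h4 in
/-- The higher direct images to the coarser topology vanish. -/
theorem van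
    (h5 : ∀ (U : C) (S : Sieve U), S ∈ J U → ∃ (ι : Type u) (V : ι → C) (v : ∀ j, V j ⟶ U),
      Sieve.ofArrows V v ∈ J' U ∧ ∀ j, ∃ (W : C) (w : W ⟶ V j), P w ∧
        Sieve.ofArrows (fun _ : PUnit.{u + 1} => W) (fun _ => w) ∈ J (V j) ∧
        ∃ (κ : Type u) (Wk : κ → C) (wk : ∀ k, Wk k ⟶ W), Sieve.ofArrows Wk wk ∈ J' W ∧
          ∀ k, S.arrows (wk k ≫ w ≫ v j)) :
    ∀ n, Van h A' n := by
  intro n
  induction n with
  | zero => intro Z G _ i h1 h2; omega
  | succ n ih =>
    intro Z G hG i h1 hi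
    by_cases hin : i ≤ n
    · exact ih Z G hG i h1 hin
    obtain rfl : i = n + 1 := by omega
    refine IsZero.of_iso ?_ ((injectiveResolution G).isoRightDerivedObj (eps h Z) (n + 1))
    rw [IsZero.iff_id_eq_zero]
    apply Sheaf.hom_ext
    ext U s
    exact section_eq_zero h3 h2 h4 h5 ih (good_resolution hG (injectiveResolution G)) U.unop s

end Groth.Agent.EpsCmp
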