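import Groth.Agent.EpsCmp.Main

/-!
# The class on the finer topology is weak Serre
-/

set_option autoImplicit false

universe u

open CategoryTheory CategoryTheory.Limits Opposite

namespace Groth.Agent.EpsCmp

variable {C : Type u} [SmallCategory C] {J J' : GrothendieckTopology C} {h : J' ≤ J}
  {A' : ∀ X : C, ObjectProperty (Sheaf (J'.over X) AddCommGrpCat.{u})} [∀ X : C, WSerre.IsWeakSerre (A' X)]

/-- The class on the finer topology is weak Serre when first direct images vanish. -/
theorem isWeakSerre_inA
    (h3 : ∀ (X : C) (F' : Sheaf (J'.over X) AddCommGrpCat.{u}), A' X F' → Presheaf.IsSheaf (J.over X) F'.obj)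
    (hV : Van h A' 1) (X : C) : WSerre.IsWeakSerre (InA h A' X) :=
  have : PreservesFiniteLimits (eps h X) :=
    have : (eps h X).IsRightAdjoint := (epsAdj h X).isRightAdjoint
    inferInstance
  { exists_zero := ⟨_, isZero_zero _, (A' X).prop_of_isZero ((eps h X).map_isZero (isZero_zero _))⟩
    kernels_le := by
      rintro _ ⟨f, k, hk, hf⟩
      exact (A' X).prop_of_isLimit_kernelFork (KernelFork.mapIsLimit k hk (eps h X)) hf.1 hf.2
    cokernels_le := by
      rintro _ ⟨f, k, hk, hf⟩
      exact (A' X).prop_of_iso ((eps h X).mapIso (IsColimit.coconePointUniqueUpToIso (cokernelIsCokernel f) hk))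
        (prop_cokernel h h3 hf.1 hf.2 f)
    prop_X₂_of_shortExact := fun {S} hS h₁ h₃ => by
      have hepi := Hyper.epi_map (eps h X) hS (hV X S.X₁ h₁ 1 le_rfl le_rfl)
      have := hS.mono_f
      have hS' : (S.map (eps h X)).ShortExact :=
        ShortComplex.ShortExact.mk' (hS.exact.map_of_mono_of_preservesKernel (eps h X) inferInstance inferInstance)
          (inferInstanceAs (Mono ((eps h X).map S.f))) hepi
      exact (A' X).prop_X₂_of_shortExact hS' h₁ h₃ }

end Groth.Agent.EpsCmp
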